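import Mathlib

set_option autoImplicit false

namespace Cfsg.Agent.Lib.Helper1.BG14b

variable {G : Type*} [Group G]

theorem mem_zpowers_mul_of_coprime {a b : G} (hab : Commute a b)
    (hcop : (orderOf a).Coprime (orderOf b)) : a ∈ Subgroup.zpowers (a * b) := by
  obtain ⟨m, hm⟩ := exists_pow_eq_self_of_coprime (x := a) (n := orderOf b) hcop.symm
  have h1 : (a * b) ^ orderOf b = a ^ orderOf b := by
    rw [hab.mul_pow, pow_orderOf_eq_one, mul_one]
  have h2 : ((a * b) ^ orderOf b) ^ m = a := by rw [h1, hm]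
  have h3 : ((a * b) ^ orderOf b) ^ m ∈ Subgroup.zpowers (a * b) :=
    Subgroup.pow_mem _ (Subgroup.pow_mem _ (Subgroup.mem_zpowers (a * b)) _) _
  rwa [h2] at h3

theorem mem_zpowers_mul_of_coprime' {a b : G} (hab : Commute a b)
    (hcop : (orderOf a).Coprime (orderOf b)) : b ∈ Subgroup.zpowers (a * b) := by
  have := mem_zpowers_mul_of_coprime hab.symm hcop.symm
  rwa [hab.symm.eq] at this

theorem coprime_of_pi {π : Set ℕ} {a b : G}
    (ha : ∀ p : ℕ, p.Prime → p ∣ orderOf a → p ∈ π)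
    (hb : ∀ p : ℕ, p.Prime → p ∣ orderOf b → p ∉ π) : (orderOf a).Coprime (orderOf b) := by
  apply Nat.coprime_of_dvd
  intro p hp hpa hpb
  exact hb p hp hpb (ha p hp hpa)

theorem prime_dvd_orderOf_mul {a b : G} (hab : Commute a b) {p : ℕ} (hp : p.Prime)
    (h : p ∣ orderOf (a * b)) : p ∣ orderOf a ∨ p ∣ orderOf b := by
  have h1 := h.trans (hab.orderOf_mul_dvd_lcm)
  have h2 := h1.trans (Nat.lcm_dvd_mul _ _)
  exact (Nat.Prime.dvd_mul hp).mp h2

theorem pi_decomp_unique [Finite G] {π : Set ℕ} {a b a' b' : G} (hab : Commute a b)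
    (hab' : Commute a' b') (h : a * b = a' * b')
    (ha : ∀ p : ℕ, p.Prime → p ∣ orderOf a → p ∈ π)
    (ha' : ∀ p : ℕ, p.Prime → p ∣ orderOf a' → p ∈ π)
    (hb : ∀ p : ℕ, p.Prime → p ∣ orderOf b → p ∉ π)
    (hb' : ∀ p : ℕ, p.Prime → p ∣ orderOf b' → p ∉ π) : a = a' ∧ b = b' := by
  have hcop := coprime_of_pi ha hb
  have hcop' := coprime_of_pi ha' hb'
  have m1 : a ∈ Subgroup.zpowers (a * b) := mem_zpowers_mul_of_coprime hab hcop
  have m2 : b ∈ Subgroup.zpowers (a * b) := mem_zpowers_mul_of_coprime' hab hcop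
  have m3 : a' ∈ Subgroup.zpowers (a * b) := by
    rw [h]; exact mem_zpowers_mul_of_coprime hab' hcop'
  have m4 : b' ∈ Subgroup.zpowers (a * b) := by
    rw [h]; exact mem_zpowers_mul_of_coprime' hab' hcop'
  have comm : ∀ u ∈ Subgroup.zpowers (a * b), ∀ v ∈ Subgroup.zpowers (a * b), Commute u v := by
    intro u hu v hv
    obtain ⟨i, rfl⟩ := Subgroup.mem_zpowers_iff.mp hu
    obtain ⟨j, rfl⟩ := Subgroup.mem_zpowers_iff.mp hv
    exact (Commute.refl _).zpow_zpow i j
  have hc : a'⁻¹ * a = b' * b⁻¹ := by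
    have : a = a' * b' * b⁻¹ := by rw [← h]; group
    rw [this]; group
  have hca : Commute a'⁻¹ a := (comm a' m3 a m1).inv_left
  have hcb : Commute b' b⁻¹ := (comm b' m4 b m2).inv_right
  have hone : orderOf (a'⁻¹ * a) = 1 := by
    by_contra hne
    obtain ⟨p, hp, hpd⟩ := Nat.exists_prime_and_dvd hne
    have h1 : p ∈ π := by
      rcases prime_dvd_orderOf_mul hca hp hpd with h1 | h1
      · rw [orderOf_inv] at h1; exact ha' p hp h1
      · exact ha p hp h1
    have h2 : p ∉ π := by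
      rw [hc] at hpd
      rcases prime_dvd_orderOf_mul hcb hp hpd with h1 | h1
      · exact hb' p hp h1
      · rw [orderOf_inv] at h1; exact hb p hp h1
    exact h2 h1
  have h1 : a'⁻¹ * a = 1 := orderOf_eq_one_iff.mp hone
  have haa : a = a' := by
    have : a = a' * (a'⁻¹ * a) := by group
    rw [this, h1, mul_one]
  refine ⟨haa, ?_⟩
  rw [haa] at h
  exact mul_left_cancel h

end Cfsg.Agent.Lib.Helper1.BG14b
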