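import Mathlib
import Cfsg.Agent.Lib.Helper1.BG14b.SupportR
import Cfsg.Agent.Lib.Helper1.BG14b.PiDecomp
import Cfsg.Agent.Lib.Helper1.BG12.SigmaDisjoint
import Cfsg.Agent.Lib.Helper28.BGtA
import Cfsg.Agent.S1374
import Cfsg.Agent.S1378

set_option autoImplicit false

namespace Cfsg.Agent.Lib.Helper1.BG14b

open Cfsg Cfsg.Agent.Lib.Helper18 Cfsg.Agent.Lib.Helper28.BGt

variable {G : Type*} [Group G] [Finite G]

theorem primes_of_mem_sigmaCore (hG : Cfsg.IsMinSimpleOddOrder G) {M : Subgroup G}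
    (hM : IsCoatom M) {x : G} (hx : x ∈ Cfsg.sigmaCore M) :
    ∀ p : ℕ, p.Prime → p ∣ orderOf x → p ∈ Cfsg.sigma M := by
  intro p hp hpd
  exact prime_sigmaCore hG hM hp (hpd.trans (Subgroup.orderOf_dvd_natCard _ hx))

theorem sigma_of_conj {M N : Subgroup G} {g : G} (h : N = conjSub g M) {p : ℕ}
    (hp : p ∈ Cfsg.sigma M) : p ∈ Cfsg.sigma N := by
  rw [h]
  exact Cfsg.Agent.Lib.Helper1.BG12.sigma_conjSub M p hp g

theorem sigma_of_conj' {M N : Subgroup G} {g : G} (h : N = conjSub g M) {p : ℕ}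
    (hp : p ∈ Cfsg.sigma N) : p ∈ Cfsg.sigma M := by
  have h2 : M = conjSub g⁻¹ N := by
    rw [h, conjSub_mul, inv_mul_cancel, conjSub_one]
  exact sigma_of_conj h2 hp

theorem eq_of_conj_of_centralizer_le (hG : Cfsg.IsMinSimpleOddOrder G) {M L : Subgroup G}
    (hM : IsCoatom M) {x : G} (hx : x ∈ Cfsg.sigmaCore M) (hx1 : x ≠ 1)
    (hCL : Subgroup.centralizer ({x} : Set G) ≤ L) {g : G} (hg : L = conjSub g M) : L = M := by
  obtain ⟨-, R, -, hR, htr⟩ := Cfsg.Agent.S1374.result hG M hM x hx hx1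
  have hxL : x ∈ L := hCL (Subgroup.mem_centralizer_singleton_iff.mpr rfl)
  have hxg : x ∈ conjSub g M := by rw [← hg]; exact hxL
  obtain ⟨c, ⟨hcR, hc⟩, -⟩ := htr g hxg
  have hcL : c ∈ L := hCL (hR.2.1 hcR)
  have h1 : conjSub c M = L := by rw [hg]; exact hc
  have h2 : M = conjSub c⁻¹ L := by
    rw [← h1, conjSub_mul, inv_mul_cancel, conjSub_one]
  rw [h2]
  exact (conjSub_eq_of_mem_normalizer (Subgroup.le_normalizer (L.inv_mem hcL))).symm

theorem sigma_disjoint_of_support (hG : Cfsg.IsMinSimpleOddOrder G) {M L : Subgroup G}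
    (hM : IsCoatom M) (hL : IsCoatom L) {x : G} (hx : x ∈ Cfsg.sigmaCore M) (hx1 : x ≠ 1)
    (hCL : Subgroup.centralizer ({x} : Set G) ≤ L)
    (hCM : ¬ Subgroup.centralizer ({x} : Set G) ≤ M) {p : ℕ} (hpM : p ∈ Cfsg.sigma M) :
    p ∉ Cfsg.sigma L := by
  intro hpL
  obtain ⟨g, hg⟩ := (Cfsg.Agent.S1378.result hG).2 M L hM hL ⟨p, hpM, hpL⟩
  have := eq_of_conj_of_centralizer_le hG hM hx hx1 hCL hg
  rw [this] at hCL
  exact hCM hCL

structure CosetData (M : Subgroup G) (x r : G) (L : Subgroup G) : Prop where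
  coatom : IsCoatom L
  le : Subgroup.centralizer ({x} : Set G) ≤ L
  not_le : ¬ Subgroup.centralizer ({x} : Set G) ≤ M
  uniq : ∀ L' : Subgroup G, IsCoatom L' → Subgroup.centralizer ({x} : Set G) ≤ L' → L' = L
  mem : r ∈ Cfsg.sigmaCore L
  comm : Commute x r
  compl : Cfsg.IsComplIn (M ⊓ L) (Cfsg.sigmaCore L) L

omit [Finite G] in
theorem exists_cosetData (h75 : T1375 G) {M : Subgroup G} (hM : IsCoatom M) {x : G}
    (hx : x ∈ Cfsg.sigmaCore M) (hx1 : x ≠ 1) {r : G} (hr : r ∈ Cfsg.supportR M x)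
    (hr1 : r ≠ 1) : ∃ L : Subgroup G, CosetData M x r L := by
  by_cases hCM : Subgroup.centralizer ({x} : Set G) ≤ M
  · rw [supportR_eq_bot_of_le hCM, Subgroup.mem_bot] at hr
    exact absurd hr hr1
  obtain ⟨N, hN, hCN, huniq, hsup, hc2, -, -⟩ := supportR_spec h75 hM hx hx1 hCM
  rw [hsup] at hr
  refine ⟨N, hN, hCN, hCM, huniq, hr.1, ?_, hc2⟩
  exact (Subgroup.mem_centralizer_singleton_iff.mp hr.2).symm

end Cfsg.Agent.Lib.Helper1.BG14b
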