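import Mathlib
import Cfsg.Agent.Lib.Helper1.BG14b.CosetData
import Cfsg.Agent.Lib.Helper11.BenderO
import Cfsg.Agent.Lib.Helper11.BenderF
import Cfsg.Agent.Lib.Helper11.ExcA
import Cfsg.Agent.Lib.Helper18.KW2
import Cfsg.Agent.Lib.Helper13.BG14O

set_option autoImplicit false

namespace Cfsg.Agent.Lib.Helper1.BG14b

open Cfsg Cfsg.Agent.Lib.Helper18 Cfsg.Agent.Lib.Helper28.BGt

variable {G : Type*} [Group G] [Finite G]

theorem sigmaCore_conjSub (hG : Cfsg.IsMinSimpleOddOrder G) {M : Subgroup G} (hM : IsCoatom M)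
    (g : G) : Cfsg.sigmaCore (conjSub g M) = conjSub g (Cfsg.sigmaCore M) := by
  have hM' : IsCoatom (conjSub g M) := Cfsg.Agent.Lib.Helper11.BenderF.isCoatom_conjSub g hM
  have hH := Cfsg.Agent.Lib.Helper11.BenderO.sigma_hall hG M hM
  have hH' := Cfsg.Agent.Lib.Helper11.BenderO.sigma_hall hG (conjSub g M) hM'
  symm
  apply hH'.2.2
  · have h1 : M ≤ Subgroup.normalizer (Cfsg.sigmaCore M : Set G) := le_normalizer_sigmaCore M
    rw [Cfsg.Agent.Lib.Helper11.ExcA.normalizer_conjSub]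
    exact conjSub_mono h1
  · refine ⟨conjSub_mono (sigmaCore_le M), ?_, ?_⟩
    · intro p hp hpd
      rw [card_conjSub] at hpd
      exact sigma_of_conj rfl (hH.1.2.1 p hp hpd)
    · intro p hp hpσ
      have h2 : (conjSub g (Cfsg.sigmaCore M)).relIndex (conjSub g M) =
          (Cfsg.sigmaCore M).relIndex M :=
        Subgroup.relIndex_map_map_of_injective _ _ (MulAut.conj g).injective
      rw [h2]
      exact hH.1.2.2 p hp (sigma_of_conj' rfl hpσ)

theorem conj_mem_sigmaCore_conjSub (hG : Cfsg.IsMinSimpleOddOrder G) {M : Subgroup G}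
    (hM : IsCoatom M) (g : G) {x : G} (hx : x ∈ Cfsg.sigmaCore M) :
    g * x * g⁻¹ ∈ Cfsg.sigmaCore (conjSub g M) := by
  rw [sigmaCore_conjSub hG hM]
  exact conj_mem_conjSub hx

omit [Finite G] in
theorem centralizer_conj_le_iff (g x : G) (M : Subgroup G) :
    Subgroup.centralizer ({g * x * g⁻¹} : Set G) ≤ conjSub g M ↔
      Subgroup.centralizer ({x} : Set G) ≤ M := by
  rw [Cfsg.Agent.Lib.Helper18.KW.centralizer_conj]
  constructor
  · intro h c hc
    have := h (conj_mem_conjSub (g := g) hc)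
    rw [mem_conjSub] at this
    have e : g⁻¹ * (g * c * g⁻¹) * g = c := by group
    rwa [e] at this
  · intro h
    exact conjSub_mono h

theorem supportR_conj (hG : Cfsg.IsMinSimpleOddOrder G) {M : Subgroup G} (hM : IsCoatom M)
    (g : G) {x : G} (hx : x ∈ Cfsg.sigmaCore M) (hx1 : x ≠ 1) :
    Cfsg.supportR (conjSub g M) (g * x * g⁻¹) = conjSub g (Cfsg.supportR M x) := by
  have hM' : IsCoatom (conjSub g M) := Cfsg.Agent.Lib.Helper11.BenderF.isCoatom_conjSub g hM
  have hx' : g * x * g⁻¹ ∈ Cfsg.sigmaCore (conjSub g M) := conj_mem_sigmaCore_conjSub hG hM g hx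
  have hx'1 : g * x * g⁻¹ ≠ 1 := by
    intro h
    apply hx1
    have : x = g⁻¹ * (g * x * g⁻¹) * g := by group
    rw [this, h]; group
  by_cases hC : Subgroup.centralizer ({x} : Set G) ≤ M
  · rw [Cfsg.Agent.Lib.Helper13.BG14.bg14_supportR_of_le hC,
      Cfsg.Agent.Lib.Helper13.BG14.bg14_supportR_of_le ((centralizer_conj_le_iff g x M).mpr hC)]
    exact (Subgroup.map_bot _).symm
  · obtain ⟨N, ⟨hN, hCN⟩, -⟩ := Cfsg.Agent.Lib.Helper13.BG14.bg14_cent_not_le hG M hM x hx hx1 hC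
    have hC' : ¬ Subgroup.centralizer ({g * x * g⁻¹} : Set G) ≤ conjSub g M :=
      fun h => hC ((centralizer_conj_le_iff g x M).mp h)
    have hN' : IsCoatom (conjSub g N) := Cfsg.Agent.Lib.Helper11.BenderF.isCoatom_conjSub g hN
    have hCN' : Subgroup.centralizer ({g * x * g⁻¹} : Set G) ≤ conjSub g N :=
      (centralizer_conj_le_iff g x N).mpr hCN
    rw [Cfsg.Agent.Lib.Helper13.BG14.bg14_supportR_eq hG hM hx hx1 hC hN hCN,
      Cfsg.Agent.Lib.Helper13.BG14.bg14_supportR_eq hG hM' hx' hx'1 hC' hN' hCN',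
      sigmaCore_conjSub hG hN, Cfsg.Agent.Lib.Helper18.KW.centralizer_conj]
    exact (Subgroup.map_inf _ _ _ (MulAut.conj g).injective).symm

end Cfsg.Agent.Lib.Helper1.BG14b
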