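import Mathlib
import Cfsg.Agent.Lib.Helper1.BG14b.CosetData

set_option autoImplicit false

namespace Cfsg.Agent.Lib.Helper1.BG14b

open Cfsg Cfsg.Agent.Lib.Helper18 Cfsg.Agent.Lib.Helper28.BGt

variable {G : Type*} [Group G] [Finite G]

theorem exists_prime_dvd_orderOf {z : G} (hz : z ≠ 1) : ∃ p : ℕ, p.Prime ∧ p ∣ orderOf z := by
  apply Nat.exists_prime_and_dvd
  intro h
  exact hz (orderOf_eq_one_iff.mp h)

theorem one_trivial_case (hG : Cfsg.IsMinSimpleOddOrder G) {M N L' : Subgroup G}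
    (hM : IsCoatom M) (hN : IsCoatom N) {x y s : G} (hx : x ∈ Cfsg.sigmaCore M)
    (hy : y ∈ Cfsg.sigmaCore N) (hy1 : y ≠ 1) (hs1 : s ≠ 1) (d : CosetData N y s L')
    (heq : x = y * s) : False := by
  have hxπ := primes_of_mem_sigmaCore hG hM hx
  have hyπ := primes_of_mem_sigmaCore hG hN hy
  have hsπ := primes_of_mem_sigmaCore hG d.coatom d.mem
  have hdis : ∀ p : ℕ, p ∈ Cfsg.sigma N → p ∉ Cfsg.sigma L' := fun p hp =>
    sigma_disjoint_of_support hG hN d.coatom hy hy1 d.le d.not_le hp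
  have hcop : (orderOf y).Coprime (orderOf s) :=
    coprime_of_pi (π := Cfsg.sigma N) hyπ (fun p hp hpd => fun h => hdis p h (hsπ p hp hpd))
  have hyz : y ∈ Subgroup.zpowers (y * s) := mem_zpowers_mul_of_coprime d.comm hcop
  have hsz : s ∈ Subgroup.zpowers (y * s) := mem_zpowers_mul_of_coprime' d.comm hcop
  obtain ⟨p, hp, hpd⟩ := exists_prime_dvd_orderOf hy1
  obtain ⟨q, hq, hqd⟩ := exists_prime_dvd_orderOf hs1
  have hpx : p ∣ orderOf x := by
    rw [heq]; exact hpd.trans (orderOf_dvd_of_mem_zpowers hyz)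
  have hqx : q ∣ orderOf x := by
    rw [heq]; exact hqd.trans (orderOf_dvd_of_mem_zpowers hsz)
  have hpM := hxπ p hp hpx
  have hqM := hxπ q hq hqx
  have hpN := hyπ p hp hpd
  have hqL := hsπ q hq hqd
  obtain ⟨g, hg⟩ := (Cfsg.Agent.S1378.result hG).2 M N hM hN ⟨p, hpM, hpN⟩
  exact hdis q (sigma_of_conj hg hqM) hqL

theorem cosets_disjoint (hG : Cfsg.IsMinSimpleOddOrder G) (h75 : T1375 G) {M N : Subgroup G}
    (hM : IsCoatom M) (hN : IsCoatom N) {x y : G} (hx : x ∈ Cfsg.sigmaCore M)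
    (hy : y ∈ Cfsg.sigmaCore N) (hx1 : x ≠ 1) (hy1 : y ≠ 1) (hxy : x ≠ y) :
    ∀ r ∈ Cfsg.supportR M x, ∀ s ∈ Cfsg.supportR N y, x * r ≠ y * s := by
  intro r hr s hs heq
  by_cases hr1 : r = 1
  · by_cases hs1 : s = 1
    · rw [hr1, hs1, mul_one, mul_one] at heq
      exact hxy heq
    · obtain ⟨L', d⟩ := exists_cosetData h75 hN hy hy1 hs hs1
      rw [hr1, mul_one] at heq
      exact one_trivial_case hG hM hN hx hy hy1 hs1 d heq
  obtain ⟨L, d⟩ := exists_cosetData h75 hM hx hx1 hr hr1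
  by_cases hs1 : s = 1
  · rw [hs1, mul_one] at heq
    exact one_trivial_case hG hN hM hy hx hx1 hr1 d heq.symm
  obtain ⟨L', d'⟩ := exists_cosetData h75 hN hy hy1 hs hs1
  have hxπ := primes_of_mem_sigmaCore hG hM hx
  have hyπ := primes_of_mem_sigmaCore hG hN hy
  have hrπ := primes_of_mem_sigmaCore hG d.coatom d.mem
  have hsπ := primes_of_mem_sigmaCore hG d'.coatom d'.mem
  have hdis : ∀ p : ℕ, p ∈ Cfsg.sigma M → p ∉ Cfsg.sigma L := fun p hp =>
    sigma_disjoint_of_support hG hM d.coatom hx hx1 d.le d.not_le hp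
  have hdis' : ∀ p : ℕ, p ∈ Cfsg.sigma N → p ∉ Cfsg.sigma L' := fun p hp =>
    sigma_disjoint_of_support hG hN d'.coatom hy hy1 d'.le d'.not_le hp
  have hcop' : (orderOf y).Coprime (orderOf s) :=
    coprime_of_pi (π := Cfsg.sigma N) hyπ (fun p hp hpd => fun h => hdis' p h (hsπ p hp hpd))
  have hyz : y ∈ Subgroup.zpowers (y * s) := mem_zpowers_mul_of_coprime d'.comm hcop'
  obtain ⟨p, hp, hpd⟩ := exists_prime_dvd_orderOf hy1
  have hpg : p ∣ orderOf (x * r) := by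
    rw [heq]; exact hpd.trans (orderOf_dvd_of_mem_zpowers hyz)
  have hpN := hyπ p hp hpd
  rcases prime_dvd_orderOf_mul d.comm hp hpg with hpx | hpr
  · have hpM := hxπ p hp hpx
    obtain ⟨g, hg⟩ := (Cfsg.Agent.S1378.result hG).2 M N hM hN ⟨p, hpM, hpN⟩
    have := pi_decomp_unique (π := Cfsg.sigma M) d.comm d'.comm heq hxπ
      (fun q hq hqd => sigma_of_conj' hg (hyπ q hq hqd))
      (fun q hq hqd => fun h => hdis q h (hrπ q hq hqd))
      (fun q hq hqd => fun h => hdis' q (sigma_of_conj hg h) (hsπ q hq hqd))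
    exact hxy this.1
  · have hpL := hrπ p hp hpr
    obtain ⟨g, hg⟩ := (Cfsg.Agent.S1378.result hG).2 L N d.coatom hN ⟨p, hpL, hpN⟩
    have heq2 : r * x = y * s := by rw [← d.comm.eq]; exact heq
    have := pi_decomp_unique (π := Cfsg.sigma L) d.comm.symm d'.comm heq2 hrπ
      (fun q hq hqd => sigma_of_conj' hg (hyπ q hq hqd))
      (fun q hq hqd => fun h => hdis q (hxπ q hq hqd) h)
      (fun q hq hqd => fun h => hdis' q (sigma_of_conj hg h) (hsπ q hq hqd))
    obtain ⟨hry, hxs⟩ := this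
    subst hry
    subst hxs
    have hCrL : ¬ Subgroup.centralizer ({r} : Set G) ≤ L := by
      intro hle
      obtain ⟨-, R, -, hR, htr⟩ := Cfsg.Agent.S1374.result hG L d.coatom r d.mem hr1
      have hrN : r ∈ conjSub g L := by
        have h0 := (sigmaCore_le N) hy
        rw [hg] at h0
        exact h0
      obtain ⟨c, ⟨hcR, hc⟩, -⟩ := htr g hrN
      have hcL : c ∈ L := hle (hR.2.1 hcR)
      have h2 : conjSub c L = L := conjSub_eq_of_mem_normalizer (Subgroup.le_normalizer hcL)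
      have h3 : N = L := by rw [hg]; exact hc.symm.trans h2
      apply d'.not_le
      rw [h3]
      exact hle
    obtain ⟨N'', ⟨hN'', hCN''⟩, huniq, -, -, -, hc2, -⟩ := h75 L d.coatom r d.mem hr1 hCrL
    have hL'N : L' = N'' := huniq L' d'.coatom d'.le
    rw [← hL'N] at hc2
    have hxL : x ∈ L := d.le (Subgroup.mem_centralizer_singleton_iff.mpr rfl)
    have hxL' : x ∈ L' := (sigmaCore_le L') d'.mem
    have hmem : x ∈ (L ⊓ L') ⊓ Cfsg.sigmaCore L' :=
      Subgroup.mem_inf.mpr ⟨Subgroup.mem_inf.mpr ⟨hxL, hxL'⟩, d'.mem⟩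
    rw [hc2.2.2.1, Subgroup.mem_bot] at hmem
    exact hx1 hmem

end Cfsg.Agent.Lib.Helper1.BG14b
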