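import Mathlib
import Cfsg.Agent.Lib.Helper1.BG14b.ConjEquiv
import Cfsg.Agent.Lib.Helper1.BG14.SigmaATIc
import Cfsg.Agent.Lib.Helper13.BG14K

set_option autoImplicit false

namespace Cfsg.Agent.Lib.Helper1.BG14b

open Cfsg Cfsg.Agent.Lib.Helper18 Cfsg.Agent.Lib.Helper28.BGt
open Cfsg.Agent.Lib.Helper13.BG14

variable {G : Type*} [Group G] [Finite G]

theorem fusion_decomp (hG : Cfsg.IsMinSimpleOddOrder G) {M : Subgroup G} (hM : IsCoatom M)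
    {x : G} (hx : x ∈ Cfsg.sigmaCore M) (hx1 : x ≠ 1) {z : G} (hz : z * x * z⁻¹ ∈ M) :
    ∃ m ∈ M, ∃ b ∈ Cfsg.supportR M x, z = m * b := by
  obtain ⟨-, R, -, hR, htr⟩ := Cfsg.Agent.S1374.result hG M hM x hx hx1
  have hxz : x ∈ conjSub z⁻¹ M := by
    rw [mem_conjSub, inv_inv]; exact hz
  obtain ⟨r, ⟨hrR, hr⟩, -⟩ := htr z⁻¹ hxz
  have h1 := bg14_map_conj_eq_iff.mp hr
  rw [Cfsg.Agent.Lib.Helper1.BG14.normalizer_coatom hG hM] at h1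
  have hzr : z * r ∈ M := by
    have := M.inv_mem h1
    have e : (r⁻¹ * z⁻¹)⁻¹ = z * r := by group
    rwa [e] at this
  have hrC : r⁻¹ ∈ Subgroup.centralizer ({x} : Set G) := Subgroup.inv_mem _ (hR.2.1 hrR)
  obtain ⟨-, hcompl⟩ := bg14_supportR_compl hG hM hx hx1
  obtain ⟨a, ha, b, hb, hab⟩ := hcompl.2.2.2 r⁻¹ hrC
  refine ⟨z * r * a, M.mul_mem hzr ha.1, b, hb, ?_⟩
  calc z = z * r * r⁻¹ := by group
    _ = z * r * (a * b) := by rw [hab]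
    _ = z * r * a * b := by group

theorem supportR_le_centralizer (hG : Cfsg.IsMinSimpleOddOrder G) {M : Subgroup G}
    (hM : IsCoatom M) {x : G} (hx : x ∈ Cfsg.sigmaCore M) (hx1 : x ≠ 1) :
    Cfsg.supportR M x ≤ Subgroup.centralizer ({x} : Set G) :=
  (bg14_supportR_compl hG hM hx hx1).2.2.1

theorem supportR_conj_mem (hG : Cfsg.IsMinSimpleOddOrder G) {M : Subgroup G} (hM : IsCoatom M)
    {m : G} (hm : m ∈ M) {x : G} (hx : x ∈ Cfsg.sigmaCore M) (hx1 : x ≠ 1) :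
    Cfsg.supportR M (m * x * m⁻¹) = conjSub m (Cfsg.supportR M x) := by
  have h := supportR_conj hG hM m hx hx1
  rwa [conjSub_eq_of_mem_normalizer (Subgroup.le_normalizer hm)] at h

noncomputable def Rg (M : Subgroup G) (a' : G) : Subgroup G :=
  conjSub (bg14Base M a') (Cfsg.supportR M ((bg14Base M a')⁻¹ * a' * bg14Base M a'))

theorem Rg_eq (hG : Cfsg.IsMinSimpleOddOrder G) {M : Subgroup G} (hM : IsCoatom M) {a' : G}
    (ha'1 : a' ≠ 1) {y : G} (hy : y⁻¹ * a' * y ∈ Cfsg.sigmaCore M) :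
    Rg M a' = conjSub y (Cfsg.supportR M (y⁻¹ * a' * y)) := by
  have hb := bg14Base_spec (M := M) (x₁ := a') ⟨y, hy⟩
  obtain ⟨y₀, hy₀⟩ : ∃ y₀, y₀ = bg14Base M a' := ⟨_, rfl⟩
  unfold Rg
  rw [← hy₀] at hb ⊢
  have ne1 : ∀ u : G, u⁻¹ * a' * u ≠ 1 := by
    intro u h
    apply ha'1
    have : a' = u * (u⁻¹ * a' * u) * u⁻¹ := by group
    rw [this, h]; group
  have hz : (y⁻¹ * y₀) * (y₀⁻¹ * a' * y₀) * (y⁻¹ * y₀)⁻¹ ∈ M := by
    have e : (y⁻¹ * y₀) * (y₀⁻¹ * a' * y₀) * (y⁻¹ * y₀)⁻¹ = y⁻¹ * a' * y := by group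
    rw [e]; exact sigmaCore_le M hy
  obtain ⟨m, hm, b, hb2, hzmb⟩ := fusion_decomp hG hM hb (ne1 y₀) hz
  have hbC := supportR_le_centralizer hG hM hb (ne1 y₀) hb2
  have hbx : b * (y₀⁻¹ * a' * y₀) * b⁻¹ = y₀⁻¹ * a' * y₀ := by
    have := Subgroup.mem_centralizer_singleton_iff.mp hbC
    calc b * (y₀⁻¹ * a' * y₀) * b⁻¹ = (b * (y₀⁻¹ * a' * y₀)) * b⁻¹ := by group
      _ = ((y₀⁻¹ * a' * y₀) * b) * b⁻¹ := by rw [this]
      _ = y₀⁻¹ * a' * y₀ := by group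
  have e1 : y⁻¹ * a' * y = m * (y₀⁻¹ * a' * y₀) * m⁻¹ := by
    have : y⁻¹ * a' * y = (y⁻¹ * y₀) * (y₀⁻¹ * a' * y₀) * (y⁻¹ * y₀)⁻¹ := by group
    rw [this, hzmb]
    calc m * b * (y₀⁻¹ * a' * y₀) * (m * b)⁻¹ = m * (b * (y₀⁻¹ * a' * y₀) * b⁻¹) * m⁻¹ := by group
      _ = m * (y₀⁻¹ * a' * y₀) * m⁻¹ := by rw [hbx]
  rw [e1, supportR_conj_mem hG hM hm hb (ne1 y₀), conjSub_mul]
  have e2 : y * m * b = y₀ := by
    calc y * m * b = y * (m * b) := by group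
      _ = y * (y⁻¹ * y₀) := by rw [hzmb]
      _ = y₀ := by group
  have e3 : conjSub b (Cfsg.supportR M (y₀⁻¹ * a' * y₀)) = Cfsg.supportR M (y₀⁻¹ * a' * y₀) :=
    conjSub_eq_of_mem_normalizer (Subgroup.le_normalizer hb2)
  obtain ⟨S, hS⟩ : ∃ S, S = Cfsg.supportR M (y₀⁻¹ * a' * y₀) := ⟨_, rfl⟩
  rw [← hS] at e3 ⊢
  calc conjSub y₀ S = conjSub (y * m * b) S := by rw [e2]
    _ = conjSub (y * m) (conjSub b S) := by rw [conjSub_mul]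
    _ = conjSub (y * m) S := by rw [e3]

end Cfsg.Agent.Lib.Helper1.BG14b
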