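import Mathlib
import Cfsg.Agent.Lib.Helper1.BG14b.Fusion

set_option autoImplicit false

namespace Cfsg.Agent.Lib.Helper1.BG14b

open Cfsg Cfsg.Agent.Lib.Helper18 Cfsg.Agent.Lib.Helper28.BGt
open Cfsg.Agent.Lib.Helper13.BG14

variable {G : Type*} [Group G] [Finite G]

theorem t1375 (hG : Cfsg.IsMinSimpleOddOrder G) : T1375 G :=
  fun M hM x hx hx1 hxM => bg14_cent_not_le hG M hM x hx hx1 hxM

def Ctr (M : Subgroup G) : Set G := {a' | a' ≠ 1 ∧ ∃ y : G, y⁻¹ * a' * y ∈ Cfsg.sigmaCore M}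

def Cj (M : Subgroup G) (a' : G) : Set (G ⧸ M) :=
  {c | (c.out)⁻¹ * a' * c.out ∈ Cfsg.sigmaCore M}

theorem supportR_primes (hG : Cfsg.IsMinSimpleOddOrder G) {M : Subgroup G} (hM : IsCoatom M)
    {x : G} (hx : x ∈ Cfsg.sigmaCore M) (hx1 : x ≠ 1) {r : G} (hr : r ∈ Cfsg.supportR M x) :
    ∀ p : ℕ, p.Prime → p ∣ orderOf r → p ∉ Cfsg.sigma M := by
  intro p hp hpd hpM
  by_cases hr1 : r = 1
  · rw [hr1, orderOf_one] at hpd
    exact hp.one_lt.ne' (Nat.dvd_one.mp hpd)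
  obtain ⟨L, d⟩ := exists_cosetData (t1375 hG) hM hx hx1 hr hr1
  exact sigma_disjoint_of_support hG hM d.coatom hx hx1 d.le d.not_le hpM
    (primes_of_mem_sigmaCore hG d.coatom d.mem p hp hpd)

theorem conj_ne_one {a' : G} (ha' : a' ≠ 1) (u : G) : u⁻¹ * a' * u ≠ 1 := by
  intro h
  apply ha'
  have : a' = u * (u⁻¹ * a' * u) * u⁻¹ := by group
  rw [this, h]; group

theorem Rg_props (hG : Cfsg.IsMinSimpleOddOrder G) {M : Subgroup G} (hM : IsCoatom M) {a' : G}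
    (ha' : a' ∈ Ctr M) {ρ : G} (hρ : ρ ∈ Rg M a') :
    Commute a' ρ ∧ (∀ p : ℕ, p.Prime → p ∣ orderOf a' → p ∈ Cfsg.sigma M) ∧
      (∀ p : ℕ, p.Prime → p ∣ orderOf ρ → p ∉ Cfsg.sigma M) ∧
      a' * ρ ∈ Cfsg.tildeOf M ((Cfsg.sigmaCore M : Set G) \ {1}) := by
  obtain ⟨ha'1, y, hy⟩ := ha'
  rw [Rg_eq hG hM ha'1 hy, mem_conjSub] at hρ
  have hne := conj_ne_one ha'1 y
  have hC := supportR_le_centralizer hG hM hy hne hρ
  have hcomm : (y⁻¹ * ρ * y) * (y⁻¹ * a' * y) = (y⁻¹ * a' * y) * (y⁻¹ * ρ * y) :=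
    Subgroup.mem_centralizer_singleton_iff.mp hC
  have ho1 : orderOf (y⁻¹ * a' * y) = orderOf a' := by
    have := orderOf_conj_h18 y⁻¹ a'
    rwa [inv_inv] at this
  have ho2 : orderOf (y⁻¹ * ρ * y) = orderOf ρ := by
    have := orderOf_conj_h18 y⁻¹ ρ
    rwa [inv_inv] at this
  refine ⟨?_, ?_, ?_, ?_⟩
  · show a' * ρ = ρ * a'
    have e1 : a' * ρ = y * ((y⁻¹ * a' * y) * (y⁻¹ * ρ * y)) * y⁻¹ := by group
    have e2 : ρ * a' = y * ((y⁻¹ * ρ * y) * (y⁻¹ * a' * y)) * y⁻¹ := by group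
    rw [e1, e2, hcomm]
  · intro p hp hpd
    rw [← ho1] at hpd
    exact primes_of_mem_sigmaCore hG hM hy p hp hpd
  · intro p hp hpd
    rw [← ho2] at hpd
    exact supportR_primes hG hM hy hne hρ p hp hpd
  · refine ⟨y⁻¹ * a' * y, ⟨hy, hne⟩, y⁻¹ * ρ * y, hρ, y, ?_⟩
    group

theorem tilde_exists (hG : Cfsg.IsMinSimpleOddOrder G) {M : Subgroup G} (hM : IsCoatom M)
    {w : G} (hw : w ∈ Cfsg.tildeOf M ((Cfsg.sigmaCore M : Set G) \ {1})) :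
    ∃ a' ∈ Ctr M, ∃ ρ ∈ Rg M a', w = a' * ρ := by
  obtain ⟨a, ⟨ha, ha1⟩, r, hr, y, rfl⟩ := hw
  have ha1' : a ≠ 1 := ha1
  have hne : y * a * y⁻¹ ≠ 1 := by
    have := conj_ne_one ha1' y⁻¹
    rwa [inv_inv] at this
  have e : y⁻¹ * (y * a * y⁻¹) * y = a := by group
  have hy : y⁻¹ * (y * a * y⁻¹) * y ∈ Cfsg.sigmaCore M := by rw [e]; exact ha
  refine ⟨y * a * y⁻¹, ⟨hne, y, hy⟩, y * r * y⁻¹, ?_, by group⟩
  rw [Rg_eq hG hM hne hy, e]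
  exact conj_mem_conjSub hr

end Cfsg.Agent.Lib.Helper1.BG14b
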