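import Mathlib
import Cfsg.Agent.Lib.Helper1.BG14b.TildeForm

set_option autoImplicit false

namespace Cfsg.Agent.Lib.Helper1.BG14b

open Cfsg Cfsg.Agent.Lib.Helper18 Cfsg.Agent.Lib.Helper28.BGt
open Cfsg.Agent.Lib.Helper13.BG14

variable {G : Type*} [Group G] [Finite G]

theorem card_Rg_eq_card_Cj (hG : Cfsg.IsMinSimpleOddOrder G) {M : Subgroup G} (hM : IsCoatom M)
    {a' : G} (ha' : a' ∈ Ctr M) : Nat.card (Rg M a') = Nat.card (Cj M a') := by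
  obtain ⟨ha'1, y, hy⟩ := ha'
  have hne := conj_ne_one ha'1 y
  rw [Rg_eq hG hM ha'1 hy, card_conjSub]
  obtain ⟨-, hcompl⟩ := bg14_supportR_compl hG hM hy hne
  have hRC := supportR_le_centralizer hG hM hy hne
  have hnorm : M ≤ Subgroup.normalizer (Cfsg.sigmaCore M : Set G) := le_normalizer_sigmaCore M
  have wd : ∀ ρ ∈ Cfsg.supportR M (y⁻¹ * a' * y), ((y * ρ : G) : G ⧸ M) ∈ Cj M a' := by
    intro ρ hρ
    obtain ⟨m, hm⟩ := QuotientGroup.mk_out_eq_mul M (y * ρ)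
    show (((y * ρ : G) : G ⧸ M).out)⁻¹ * a' * ((y * ρ : G) : G ⧸ M).out ∈ Cfsg.sigmaCore M
    rw [hm]
    have hc : ρ * (y⁻¹ * a' * y) = (y⁻¹ * a' * y) * ρ :=
      Subgroup.mem_centralizer_singleton_iff.mp (hRC hρ)
    have e : (y * ρ * (m : G))⁻¹ * a' * (y * ρ * (m : G)) =
        (m : G)⁻¹ * (ρ⁻¹ * ((y⁻¹ * a' * y) * ρ)) * ((m : G)⁻¹)⁻¹ := by group
    rw [e, ← hc]
    have e2 : ρ⁻¹ * (ρ * (y⁻¹ * a' * y)) = y⁻¹ * a' * y := by group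
    rw [e2]
    exact conj_mem_of_le_normalizer hnorm (M.inv_mem m.2) hy
  let f : ↥(Cfsg.supportR M (y⁻¹ * a' * y)) → ↥(Cj M a') :=
    fun ρ => ⟨((y * (ρ : G) : G) : G ⧸ M), wd ρ.1 ρ.2⟩
  have hf : Function.Bijective f := by
    constructor
    · intro ρ ρ' h
      have h1 : ((y * (ρ : G) : G) : G ⧸ M) = ((y * (ρ' : G) : G) : G ⧸ M) :=
        congrArg Subtype.val h
      rw [QuotientGroup.eq] at h1
      have e : (y * (ρ : G))⁻¹ * (y * (ρ' : G)) = (ρ : G)⁻¹ * (ρ' : G) := by group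
      rw [e] at h1
      have hR : (ρ : G)⁻¹ * (ρ' : G) ∈ Cfsg.supportR M (y⁻¹ * a' * y) :=
        Subgroup.mul_mem _ (Subgroup.inv_mem _ ρ.2) ρ'.2
      have hmem : (ρ : G)⁻¹ * (ρ' : G) ∈ (M ⊓ Subgroup.centralizer ({y⁻¹ * a' * y} : Set G)) ⊓
          Cfsg.supportR M (y⁻¹ * a' * y) :=
        Subgroup.mem_inf.mpr ⟨Subgroup.mem_inf.mpr ⟨h1, hRC hR⟩, hR⟩
      rw [hcompl.2.2.1, Subgroup.mem_bot] at hmem
      apply Subtype.ext
      have : (ρ' : G) = (ρ : G) * ((ρ : G)⁻¹ * (ρ' : G)) := by group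
      rw [this, hmem, mul_one]
    · rintro ⟨c, hc⟩
      have hc' : (c.out)⁻¹ * a' * c.out ∈ Cfsg.sigmaCore M := hc
      have hz : ((c.out)⁻¹ * y) * (y⁻¹ * a' * y) * ((c.out)⁻¹ * y)⁻¹ ∈ M := by
        have e : ((c.out)⁻¹ * y) * (y⁻¹ * a' * y) * ((c.out)⁻¹ * y)⁻¹ = (c.out)⁻¹ * a' * c.out := by
          group
        rw [e]; exact sigmaCore_le M hc'
      obtain ⟨m, hm, b, hb, hzmb⟩ := fusion_decomp hG hM hy hne hz
      refine ⟨⟨b⁻¹, Subgroup.inv_mem _ hb⟩, ?_⟩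
      apply Subtype.ext
      show ((y * b⁻¹ : G) : G ⧸ M) = c
      rw [← QuotientGroup.out_eq' c, QuotientGroup.eq]
      have e : (y * b⁻¹)⁻¹ * c.out = b * ((c.out)⁻¹ * y)⁻¹ := by group
      rw [e, hzmb]
      have e2 : b * (m * b)⁻¹ = m⁻¹ := by group
      rw [e2]
      exact M.inv_mem hm
  exact Nat.card_congr (Equiv.ofBijective f hf)

theorem card_tilde (hG : Cfsg.IsMinSimpleOddOrder G) {M : Subgroup G} (hM : IsCoatom M) :
    Set.ncard (Cfsg.tildeOf M ((Cfsg.sigmaCore M : Set G) \ {1})) =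
      (Nat.card (Cfsg.sigmaCore M) - 1) * M.index := by
  classical
  haveI : Fintype ↥(Ctr M) := Fintype.ofFinite _
  -- first equivalence
  let f1 : (Σ a' : ↥(Ctr M), ↥(Rg M (a' : G))) →
      ↥(Cfsg.tildeOf M ((Cfsg.sigmaCore M : Set G) \ {1})) :=
    fun p => ⟨(p.1 : G) * (p.2 : G), (Rg_props hG hM p.1.2 p.2.2).2.2.2⟩
  have hf1 : Function.Bijective f1 := by
    constructor
    · rintro ⟨⟨a', ha'⟩, ⟨ρ, hρ⟩⟩ ⟨⟨a'', ha''⟩, ⟨ρ'', hρ''⟩⟩ h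
      have h1 : a' * ρ = a'' * ρ'' := congrArg Subtype.val h
      obtain ⟨c1, p1, q1, -⟩ := Rg_props hG hM ha' hρ
      obtain ⟨c2, p2, q2, -⟩ := Rg_props hG hM ha'' hρ''
      obtain ⟨e1, e2⟩ := pi_decomp_unique (π := Cfsg.sigma M) c1 c2 h1 p1 p2 q1 q2
      subst e1
      subst e2
      rfl
    · rintro ⟨w, hw⟩
      obtain ⟨a', ha', ρ, hρ, rfl⟩ := tilde_exists hG hM hw
      exact ⟨⟨⟨a', ha'⟩, ⟨ρ, hρ⟩⟩, rfl⟩
  -- second equivalence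
  let f2 : (Σ a' : ↥(Ctr M), ↥(Cj M (a' : G))) →
      (G ⧸ M) × {x : G // x ∈ Cfsg.sigmaCore M ∧ x ≠ 1} :=
    fun p => (p.2.1, ⟨((p.2.1 : G ⧸ M).out)⁻¹ * (p.1 : G) * (p.2.1 : G ⧸ M).out, p.2.2,
      conj_ne_one p.1.2.1 _⟩)
  have hf2 : Function.Bijective f2 := by
    constructor
    · rintro ⟨⟨a', ha'⟩, ⟨c, hc⟩⟩ ⟨⟨a'', ha''⟩, ⟨c'', hc''⟩⟩ h
      have h1 : c = c'' := congrArg Prod.fst h
      subst h1
      have h2 : (c.out)⁻¹ * a' * c.out = (c.out)⁻¹ * a'' * c.out :=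
        congrArg (fun z => (z.2 : G)) h
      have h3 : a' = a'' := by
        have := congrArg (fun t => c.out * t * (c.out)⁻¹) h2
        simpa [mul_assoc] using this
      subst h3
      rfl
    · rintro ⟨c, ⟨a, ha, ha1⟩⟩
      have hne : c.out * a * (c.out)⁻¹ ≠ 1 := by
        have := conj_ne_one ha1 (c.out)⁻¹
        rwa [inv_inv] at this
      have e : (c.out)⁻¹ * (c.out * a * (c.out)⁻¹) * c.out = a := by group
      refine ⟨⟨⟨c.out * a * (c.out)⁻¹, hne, c.out, by rw [e]; exact ha⟩,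
        ⟨c, by
          show (c.out)⁻¹ * (c.out * a * (c.out)⁻¹) * c.out ∈ Cfsg.sigmaCore M
          rw [e]; exact ha⟩⟩, ?_⟩
      exact Prod.ext rfl (Subtype.ext e)
  have hA : Nat.card {x : G // x ∈ Cfsg.sigmaCore M ∧ x ≠ 1} =
      Nat.card (Cfsg.sigmaCore M) - 1 := by
    have h1 : {x : G | x ∈ Cfsg.sigmaCore M ∧ x ≠ 1} = (Cfsg.sigmaCore M : Set G) \ {1} := by
      ext x; simp
    have h2 : Nat.card {x : G // x ∈ Cfsg.sigmaCore M ∧ x ≠ 1} =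
        ({x : G | x ∈ Cfsg.sigmaCore M ∧ x ≠ 1} : Set G).ncard := by
      rw [← Nat.card_coe_set_eq]; rfl
    rw [h2, h1, Set.ncard_sdiff_singleton_of_mem (Subgroup.one_mem _), ← Nat.card_coe_set_eq]
    rfl
  calc Set.ncard (Cfsg.tildeOf M ((Cfsg.sigmaCore M : Set G) \ {1}))
      = Nat.card ↥(Cfsg.tildeOf M ((Cfsg.sigmaCore M : Set G) \ {1})) :=
        (Nat.card_coe_set_eq _).symm
    _ = Nat.card (Σ a' : ↥(Ctr M), ↥(Rg M (a' : G))) :=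
        (Nat.card_congr (Equiv.ofBijective f1 hf1)).symm
    _ = ∑ a' : ↥(Ctr M), Nat.card ↥(Rg M (a' : G)) := Nat.card_sigma
    _ = ∑ a' : ↥(Ctr M), Nat.card ↥(Cj M (a' : G)) :=
        Finset.sum_congr rfl (fun a' _ => card_Rg_eq_card_Cj hG hM a'.2)
    _ = Nat.card (Σ a' : ↥(Ctr M), ↥(Cj M (a' : G))) := Nat.card_sigma.symm
    _ = Nat.card ((G ⧸ M) × {x : G // x ∈ Cfsg.sigmaCore M ∧ x ≠ 1}) :=
        Nat.card_congr (Equiv.ofBijective f2 hf2)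
    _ = (Nat.card (Cfsg.sigmaCore M) - 1) * M.index := by
        rw [Nat.card_prod, hA, mul_comm]; rfl

end Cfsg.Agent.Lib.Helper1.BG14b
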