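import Mathlib
import Cfsg.Agent.Lib.Helper1.BG14b.TildeForm
import Cfsg.Agent.Lib.Helper1.BG14b.CosetsDisjoint

set_option autoImplicit false

namespace Cfsg.Agent.Lib.Helper1.BG14b

open Cfsg Cfsg.Agent.Lib.Helper18 Cfsg.Agent.Lib.Helper28.BGt
open Cfsg.Agent.Lib.Helper13.BG14

variable {G : Type*} [Group G] [Finite G]

theorem tilde_disjoint (hG : Cfsg.IsMinSimpleOddOrder G) {M N : Subgroup G} (hM : IsCoatom M)
    (hN : IsCoatom N) (hnc : ∀ g : G, N ≠ conjSub g M) :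
    Cfsg.tildeOf M ((Cfsg.sigmaCore M : Set G) \ {1}) ∩
      Cfsg.tildeOf N ((Cfsg.sigmaCore N : Set G) \ {1}) = ∅ := by
  rw [Set.eq_empty_iff_forall_notMem]
  rintro w ⟨⟨a, ⟨ha, ha1⟩, r, hr, y, hw⟩, ⟨b, ⟨hb, hb1⟩, s, hs, y', hw'⟩⟩
  have ha1' : a ≠ 1 := ha1
  have hb1' : b ≠ 1 := hb1
  have hMy : IsCoatom (conjSub y M) := Cfsg.Agent.Lib.Helper11.BenderF.isCoatom_conjSub y hM
  have hNy : IsCoatom (conjSub y' N) := Cfsg.Agent.Lib.Helper11.BenderF.isCoatom_conjSub y' hN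
  have ha' : y * a * y⁻¹ ∈ Cfsg.sigmaCore (conjSub y M) := conj_mem_sigmaCore_conjSub hG hM y ha
  have hb' : y' * b * y'⁻¹ ∈ Cfsg.sigmaCore (conjSub y' N) :=
    conj_mem_sigmaCore_conjSub hG hN y' hb
  have hne : y * a * y⁻¹ ≠ 1 := by
    have := conj_ne_one ha1' y⁻¹
    rwa [inv_inv] at this
  have hne' : y' * b * y'⁻¹ ≠ 1 := by
    have := conj_ne_one hb1' y'⁻¹
    rwa [inv_inv] at this
  have hr' : y * r * y⁻¹ ∈ Cfsg.supportR (conjSub y M) (y * a * y⁻¹) := by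
    rw [supportR_conj hG hM y ha ha1']
    exact conj_mem_conjSub hr
  have hs' : y' * s * y'⁻¹ ∈ Cfsg.supportR (conjSub y' N) (y' * b * y'⁻¹) := by
    rw [supportR_conj hG hN y' hb hb1']
    exact conj_mem_conjSub hs
  have heq : (y * a * y⁻¹) * (y * r * y⁻¹) = (y' * b * y'⁻¹) * (y' * s * y'⁻¹) := by
    have e1 : (y * a * y⁻¹) * (y * r * y⁻¹) = y * (a * r) * y⁻¹ := by group
    have e2 : (y' * b * y'⁻¹) * (y' * s * y'⁻¹) = y' * (b * s) * y'⁻¹ := by group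
    rw [e1, e2, ← hw, ← hw']
  by_cases hab : y * a * y⁻¹ = y' * b * y'⁻¹
  · obtain ⟨p, hp, hpd⟩ := exists_prime_dvd_orderOf hne
    have hpM := primes_of_mem_sigmaCore hG hMy ha' p hp hpd
    have hpN : p ∈ Cfsg.sigma (conjSub y' N) := by
      rw [hab] at hpd
      exact primes_of_mem_sigmaCore hG hNy hb' p hp hpd
    obtain ⟨g, hg⟩ := (Cfsg.Agent.S1378.result hG).2 _ _ hMy hNy ⟨p, hpM, hpN⟩
    apply hnc (y'⁻¹ * g * y)
    have h1 : conjSub y' N = conjSub (g * y) M := by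
      rw [hg]; exact conjSub_mul g y M
    have h2 : N = conjSub y'⁻¹ (conjSub y' N) := by
      rw [conjSub_mul, inv_mul_cancel, conjSub_one]
    rw [h2, h1, conjSub_mul, mul_assoc]
  · exact cosets_disjoint hG (t1375 hG) hMy hNy ha' hb' hne hne' hab _ hr' _ hs' heq

end Cfsg.Agent.Lib.Helper1.BG14b
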