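import Mathlib
import Cfsg.Agent.Lib.Helper1.BG14b.PiDecomp
import Cfsg.Agent.Lib.Helper1.BG14b.CosetData
import Cfsg.Agent.Lib.Helper1.BG15.SigmaDecomp
import Cfsg.Agent.Lib.Helper18.BGTwelveD
import Cfsg.Agent.Lib.Helper18.Isolated

set_option autoImplicit false

namespace Cfsg.Agent.Lib.Helper1.BG14b

open Cfsg Cfsg.Agent.Lib.Helper18 Cfsg.Agent.Lib.Helper28.BGt

variable {G : Type*} [Group G] [Finite G]

def Kst (M K : Subgroup G) : Subgroup G :=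
  Cfsg.sigmaCore M ⊓ Subgroup.centralizer (K : Set G)

def Zhat (M K : Subgroup G) : Set G :=
  (↑(K ⊔ Kst M K) : Set G) \ ((K : Set G) ∪ ↑(Kst M K))

omit [Finite G] in
theorem Kst_comm {M K : Subgroup G} : ∀ a ∈ K, ∀ b ∈ Kst M K, a * b = b * a := by
  intro a ha b hb
  exact Subgroup.mem_centralizer_iff.mp hb.2 a ha

theorem K_inf_Kst (hG : Cfsg.IsMinSimpleOddOrder G) {M K : Subgroup G} (hM : IsCoatom M)
    (hK : ∀ q : ℕ, q.Prime → q ∣ Nat.card K → q ∈ Cfsg.kappa M) : K ⊓ Kst M K = ⊥ := by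
  rw [eq_bot_iff, ← Cfsg.Agent.Lib.Helper1.BG15.kappa_inf_sigmaCore hG hM hK]
  exact inf_le_inf_left K inf_le_left

omit [Finite G] in
theorem Zhat_decomp {M K : Subgroup G} {z : G} (hz : z ∈ Zhat M K) :
    ∃ x ∈ K, ∃ y ∈ Kst M K, x ≠ 1 ∧ y ≠ 1 ∧ z = x * y := by
  obtain ⟨hzZ, hznot⟩ := hz
  obtain ⟨x, hx, y, hy, rfl⟩ := Cfsg.Agent.Lib.Helper18.BGTwelveD.mem_sup_of_commute Kst_comm hzZ
  refine ⟨x, hx, y, hy, ?_, ?_, rfl⟩
  · rintro rfl
    apply hznot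
    right
    rw [one_mul]; exact hy
  · rintro rfl
    apply hznot
    left
    rw [mul_one]; exact hx

theorem mul_mem_Zhat (hG : Cfsg.IsMinSimpleOddOrder G) {M K : Subgroup G} (hM : IsCoatom M)
    (hK : ∀ q : ℕ, q.Prime → q ∣ Nat.card K → q ∈ Cfsg.kappa M) {x y : G} (hx : x ∈ K)
    (hy : y ∈ Kst M K) (hx1 : x ≠ 1) (hy1 : y ≠ 1) : x * y ∈ Zhat M K := by
  have hbot := K_inf_Kst hG hM hK
  refine ⟨Subgroup.mul_mem _ (Subgroup.mem_sup_left hx) (Subgroup.mem_sup_right hy), ?_⟩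
  rintro (h | h)
  · apply hy1
    have h2 : y ∈ K := by
      have : y = x⁻¹ * (x * y) := by group
      rw [this]; exact K.mul_mem (K.inv_mem hx) h
    have h3 : y ∈ K ⊓ Kst M K := Subgroup.mem_inf.mpr ⟨h2, hy⟩
    rwa [hbot, Subgroup.mem_bot] at h3
  · apply hx1
    have h2 : x ∈ Kst M K := by
      have : x = (x * y) * y⁻¹ := by group
      rw [this]; exact (Kst M K).mul_mem h ((Kst M K).inv_mem hy)
    have h3 : x ∈ K ⊓ Kst M K := Subgroup.mem_inf.mpr ⟨hx, h2⟩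
    rwa [hbot, Subgroup.mem_bot] at h3

theorem conj_parts (hG : Cfsg.IsMinSimpleOddOrder G) {M K : Subgroup G} (hM : IsCoatom M)
    (hK : ∀ q : ℕ, q.Prime → q ∣ Nat.card K → q ∈ Cfsg.kappa M) {x y x' y' g : G}
    (hx : x ∈ K) (hy : y ∈ Kst M K) (hx' : x' ∈ K) (hy' : y' ∈ Kst M K)
    (h : g * (x * y) * g⁻¹ = x' * y') : g * y * g⁻¹ = y' ∧ g * x * g⁻¹ = x' := by
  have hKπ : ∀ {k : G}, k ∈ K → ∀ p : ℕ, p.Prime → p ∣ orderOf k → p ∉ Cfsg.sigma M := by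
    intro k hk p hp hpd
    exact (hK p hp (hpd.trans (Subgroup.orderOf_dvd_natCard K hk))).2.2.1
  have hyπ : ∀ {k : G}, k ∈ Kst M K → ∀ p : ℕ, p.Prime → p ∣ orderOf k → p ∈ Cfsg.sigma M :=
    fun hk => primes_of_mem_sigmaCore hG hM hk.1
  have hc : Commute y x := (Kst_comm x hx y hy).symm
  have hc1 : Commute (g * y * g⁻¹) (g * x * g⁻¹) := by
    show g * y * g⁻¹ * (g * x * g⁻¹) = g * x * g⁻¹ * (g * y * g⁻¹)
    calc g * y * g⁻¹ * (g * x * g⁻¹) = g * (y * x) * g⁻¹ := by group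
      _ = g * (x * y) * g⁻¹ := by rw [hc.eq]
      _ = g * x * g⁻¹ * (g * y * g⁻¹) := by group
  have hc2 : Commute y' x' := (Kst_comm x' hx' y' hy').symm
  have h2 : (g * y * g⁻¹) * (g * x * g⁻¹) = y' * x' := by
    rw [hc2.eq, ← h, ← hc.eq]; group
  exact pi_decomp_unique (π := Cfsg.sigma M) hc1 hc2 h2
    (fun p hp hpd => hyπ hy p hp (by rwa [orderOf_conj_h18] at hpd))
    (hyπ hy')
    (fun p hp hpd => hKπ hx p hp (by rwa [orderOf_conj_h18] at hpd))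
    (hKπ hx')

theorem Zhat_conj_mem (hG : Cfsg.IsMinSimpleOddOrder G) {M K : Subgroup G} (hM : IsCoatom M)
    (hKM : K ≤ M) (hK : ∀ q : ℕ, q.Prime → q ∣ Nat.card K → q ∈ Cfsg.kappa M)
    (f1 : ∀ g : G, g ∉ M → Kst M K ⊓ M.map (MulAut.conj g).toMonoidHom = ⊥)
    (f2 : ∀ g ∈ M, g ∉ K ⊔ Kst M K → K ⊓ K.map (MulAut.conj g).toMonoidHom = ⊥)
    {z g : G} (hz : z ∈ Zhat M K) (hgz : g * z * g⁻¹ ∈ Zhat M K) : g ∈ K ⊔ Kst M K := by
  obtain ⟨x, hx, y, hy, hx1, hy1, rfl⟩ := Zhat_decomp hz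
  obtain ⟨x', hx', y', hy', hx'1, hy'1, h⟩ := Zhat_decomp hgz
  obtain ⟨e1, e2⟩ := conj_parts hG hM hK hx hy hx' hy' h
  have hgM : g ∈ M := by
    by_contra hg
    have h1 : y' ∈ Kst M K ⊓ conjSub g M := by
      refine Subgroup.mem_inf.mpr ⟨hy', ?_⟩
      rw [← e1]
      exact conj_mem_conjSub ((sigmaCore_le M) hy.1)
    rw [f1 g hg, Subgroup.mem_bot] at h1
    exact hy'1 h1
  by_contra hg
  have h1 : x' ∈ K ⊓ conjSub g K := by
    refine Subgroup.mem_inf.mpr ⟨hx', ?_⟩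
    rw [← e2]
    exact conj_mem_conjSub hx
  rw [f2 g hgM hg, Subgroup.mem_bot] at h1
  exact hx'1 h1

omit [Finite G] in
theorem Z_le_normalizer_Zhat {M K : Subgroup G} :
    K ⊔ Kst M K ≤ Subgroup.normalizer (Zhat M K) := by
  have hK : K ⊔ Kst M K ≤ Subgroup.normalizer (K : Set G) := by
    apply sup_le Subgroup.le_normalizer
    exact inf_le_right.trans (Subgroup.centralizer_le_normalizer _)
  have hKs : K ⊔ Kst M K ≤ Subgroup.normalizer ((Kst M K : Subgroup G) : Set G) := by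
    apply sup_le _ Subgroup.le_normalizer
    intro a ha
    rw [Subgroup.mem_normalizer_iff]
    intro b
    constructor
    · intro hb
      have : a * b * a⁻¹ = b := by rw [Kst_comm a ha b hb]; group
      rw [this]; exact hb
    · intro hb
      have h2 := Kst_comm a⁻¹ (K.inv_mem ha) _ hb
      have : b = a⁻¹ * (a * b * a⁻¹) * a⁻¹⁻¹ := by group
      rw [this, h2]
      have e : a * b * a⁻¹ * a⁻¹ * a⁻¹⁻¹ = a * b * a⁻¹ := by group
      rw [e]; exact hb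
  intro z₀ hz₀
  rw [Subgroup.mem_set_normalizer_iff]
  intro n
  have h1 := Subgroup.mem_normalizer_iff.mp (Subgroup.le_normalizer hz₀) n
  have h2 := Subgroup.mem_normalizer_iff.mp (hK hz₀) n
  have h3 := Subgroup.mem_normalizer_iff.mp (hKs hz₀) n
  unfold Zhat
  simp only [Set.mem_sdiff, Set.mem_union, SetLike.mem_coe]
  rw [h1, h2, h3]

theorem Zhat_ti (hG : Cfsg.IsMinSimpleOddOrder G) {M K : Subgroup G} (hM : IsCoatom M)
    (hKM : K ≤ M) (hK : ∀ q : ℕ, q.Prime → q ∣ Nat.card K → q ∈ Cfsg.kappa M)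
    (hK1 : K ≠ ⊥) (hKs1 : Kst M K ≠ ⊥)
    (f1 : ∀ g : G, g ∉ M → Kst M K ⊓ M.map (MulAut.conj g).toMonoidHom = ⊥)
    (f2 : ∀ g ∈ M, g ∉ K ⊔ Kst M K → K ⊓ K.map (MulAut.conj g).toMonoidHom = ⊥) :
    Cfsg.IsTISubset (Zhat M K) ∧ Subgroup.normalizer (Zhat M K) = K ⊔ Kst M K := by
  have key := fun {z g : G} => Zhat_conj_mem hG hM hKM hK f1 f2 (z := z) (g := g)
  have hnorm : Subgroup.normalizer (Zhat M K) = K ⊔ Kst M K := by
    apply le_antisymm _ Z_le_normalizer_Zhat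
    intro g hg
    obtain ⟨⟨x, hx⟩, hx1'⟩ := (Subgroup.ne_bot_iff_exists_ne_one).mp hK1
    obtain ⟨⟨y, hy⟩, hy1'⟩ := (Subgroup.ne_bot_iff_exists_ne_one).mp hKs1
    have hx1 : x ≠ 1 := fun e => hx1' (Subtype.ext e)
    have hy1 : y ≠ 1 := fun e => hy1' (Subtype.ext e)
    have hz := mul_mem_Zhat hG hM hK hx hy hx1 hy1
    exact key hz ((Subgroup.mem_set_normalizer_iff.mp hg _).mp hz)
  refine ⟨?_, hnorm⟩
  intro g hg z hz hgz
  exfalso
  apply hg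
  rw [hnorm]
  exact key hz hgz

end Cfsg.Agent.Lib.Helper1.BG14b
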